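import Cfsg.Agent.H92.K34.Count
import Cfsg.Agent.H40.WatanabeCount
import Cfsg.Agent.H40.CentralQuotient
import Cfsg.Agent.H32.PrincipalNilpotent
import Cfsg.Agent.S4652
import Mathlib.GroupTheory.Transfer

/-!
# Ranks of principal blocks with a commutative Sylow subgroup
-/

set_option autoImplicit false
set_option linter.unusedSectionVars false

namespace Cfsg.Agent.H92.S69

open Cfsg

universe u

variable {G : Type u} [Group G] [Finite G] {p : ℕ} [hp : Fact p.Prime] {M : Ideal AlgInt}

/-- With a normal complement the normaliser of a commutative Sylow subgroup centralises it. -/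
theorem normalizer_le_centralizer_of_complement (P : Sylow p G)
    (hab : ∀ a ∈ (P : Subgroup G), ∀ b ∈ (P : Subgroup G), a * b = b * a)
    (hN : HasNormalPComplement p G) :
    Subgroup.normalizer ((P : Subgroup G) : Set G) ≤
      Subgroup.centralizer ((P : Subgroup G) : Set G) := by
  obtain ⟨P₀, N, hNn, hNc⟩ := hN
  haveI := hNn
  obtain ⟨c, hc⟩ := MulAction.exists_smul_eq G P₀ P
  have hdis : N ⊓ (P : Subgroup G) = ⊥ := by
    refine (Subgroup.eq_bot_iff_forall _).2 fun g hg => ?_
    obtain ⟨h1, h2⟩ := Subgroup.mem_inf.1 hg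
    rw [← hc] at h2
    have h3 : c⁻¹ * g * c ∈ (P₀ : Subgroup G) := by
      have := (Subgroup.mem_pointwise_smul_iff_inv_smul_mem).1 h2
      simpa [mul_assoc] using this
    have h4 : c⁻¹ * g * c ∈ N := by simpa using hNn.conj_mem g h1 c⁻¹
    have h5 := Subgroup.mem_inf.2 ⟨h4, h3⟩
    rw [hNc.disjoint.eq_bot, Subgroup.mem_bot] at h5
    calc g = c * (c⁻¹ * g * c) * c⁻¹ := by group
      _ = 1 := by rw [h5]; group
  have hidx : N.index = Nat.card (P : Subgroup G) := by
    rw [hNc.symm.index_eq_card]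
    exact Nat.card_congr (Sylow.equiv P₀ P).toEquiv
  have hcomp : Subgroup.IsComplement' N (P : Subgroup G) := by
    refine Subgroup.isComplement'_of_card_mul_and_disjoint ?_ (disjoint_iff.2 hdis)
    rw [← hidx, N.card_mul_index]
  intro g hg
  obtain ⟨⟨n, q⟩, hnq⟩ := hcomp.existsUnique g |>.exists
  simp only at hnq
  have hq : (q : G) ∈ Subgroup.centralizer ((P : Subgroup G) : Set G) :=
    Subgroup.mem_centralizer_iff.2 fun v hv => hab v hv q q.2
  have hnN : (n : G) ∈ Subgroup.normalizer ((P : Subgroup G) : Set G) := by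
    have : (n : G) = g * (q : G)⁻¹ := by rw [← hnq, mul_inv_cancel_right]
    rw [this]
    exact mul_mem hg (inv_mem (Subgroup.le_normalizer q.2))
  have hn : (n : G) ∈ Subgroup.centralizer ((P : Subgroup G) : Set G) := by
    refine Subgroup.mem_centralizer_iff.2 fun v hv => ?_
    have h1 : (n : G) * v * (n : G)⁻¹ * v⁻¹ ∈ N ⊓ (P : Subgroup G) := Subgroup.mem_inf.2 ⟨?_,
      mul_mem ((Subgroup.mem_normalizer_iff.1 hnN v).1 hv) (inv_mem hv)⟩
    · rw [hdis, Subgroup.mem_bot, mul_inv_eq_one, mul_inv_eq_iff_eq_mul] at h1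
      exact h1.symm
    · rw [show (n : G) * v * (n : G)⁻¹ * v⁻¹ = (n : G) * (v * (n : G)⁻¹ * v⁻¹) by group]
      exact N.mul_mem n.2 (hNn.conj_mem _ (N.inv_mem n.2) v)
  rw [← hnq]
  exact mul_mem hn hq

/-- Burnside: no automorphisms induced, so a normal complement. -/
theorem complement_of_normalizer_le (P : Sylow p G)
    (h : Subgroup.normalizer ((P : Subgroup G) : Set G) ≤
      Subgroup.centralizer ((P : Subgroup G) : Set G)) : HasNormalPComplement p G :=
  ⟨P, (MonoidHom.transferSylow P h).ker, inferInstance,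
    MonoidHom.ker_transferSylow_isComplement' P h⟩

/-- An element fixed by the normaliser keeps the rank. -/
theorem blockRank_eq_secRank (hM : IsPModular p M) (P : Sylow p G)
    (hab : ∀ a ∈ (P : Subgroup G), ∀ b ∈ (P : Subgroup G), a * b = b * a) {u : G}
    (hu : u ∈ (P : Subgroup G))
    (hfix : ∀ t ∈ Subgroup.normalizer ((P : Subgroup G) : Set G), t * u * t⁻¹ = u) :
    blockRank p (principalBlock M G) = K34.secRank p M u := by
  haveI := hM.2.1
  haveI := H41.IsPModular.charP hM
  haveI := Fintype.ofFinite G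
  have hB : IsPBlock M (principalBlock M G) := H41.isPBlock_principalBlock
  obtain ⟨e, hm⟩ := H40.NilpotentBlocks.exists_isMaxEl_of_defect hM hB
    ((S4652.result p M hM _).2 ⟨P, rfl⟩)
  obtain ⟨b, hb⟩ := H40.exists_subAt hM hB hm hab hu
  obtain ⟨hind, -, -⟩ := H40.isInducedBlock_of_subAt hM hB hm hab hb
  obtain ⟨-, hmaxb⟩ := H40.isMaxEl_local hM hB hm hab hb.2
  have hu' : ∃ j, orderOf u = p ^ j := by
    obtain ⟨j, hj⟩ := IsPGroup.iff_orderOf.1 P.2 ⟨u, hu⟩
    exact ⟨j, by rwa [← Subgroup.orderOf_coe] at hj⟩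
  have hbp := (K34.isInduced_iff hM hu' b).1 hind
  have h := (H40.Watanabe.rank_and_card hM hB hm hab hu
    (fun t ht => hfix t ht.1)
    (f := b) ⟨hb.1, hmaxb.below⟩).1
  rw [h, hbp]
  rfl

/-- A central four subgroup with a nontrivially acting normaliser leaves rank three. -/
theorem blockRank_eq_three (hM : IsPModular 2 M) (P : Sylow 2 G)
    (hcard : Nat.card P = 16) (hsq : ∀ a ∈ (P : Subgroup G), a * a = 1)
    (Q : Subgroup G) (hQP : Q ≤ (P : Subgroup G)) (hQ4 : Nat.card Q = 4)
    (hQc : Q ≤ Subgroup.center G) {t : G}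
    (ht : t ∈ Subgroup.normalizer ((P : Subgroup G) : Set G))
    (htC : t ∉ Subgroup.centralizer ((P : Subgroup G) : Set G)) :
    blockRank 2 (principalBlock M G) = 3 := by
  classical
  haveI := hM.2.1
  haveI := H41.IsPModular.charP hM
  haveI := Fintype.ofFinite G
  haveI : Q.Normal := ⟨fun a ha g => by
    rwa [Subgroup.mem_center_iff.1 (hQc ha) g, mul_inv_cancel_right]⟩
  have hQp : IsPGroup 2 Q := IsPGroup.of_card (n := 2) (by rw [hQ4]; norm_num)
  have hsup : Q ⊔ Subgroup.centralizer (Q : Set G) = ⊤ :=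
    eq_top_iff.2 fun g _ => Subgroup.mem_sup_right (Subgroup.mem_centralizer_iff.2
      fun a ha => (Subgroup.mem_center_iff.1 (hQc ha) g).symm)
  rw [H40.blockRank_principal_quotient hM hQp hsup]
  haveI := Fintype.ofFinite (G ⧸ Q)
  let Pb : Sylow 2 (G ⧸ Q) := P.mapSurjective (QuotientGroup.mk'_surjective Q)
  have hPb : ((Pb : Subgroup (G ⧸ Q))) = (P : Subgroup G).map (QuotientGroup.mk' Q) := rfl
  have h4 : Nat.card (Pb : Subgroup (G ⧸ Q)) = 4 := by
    have h := Nat.card_congr (QuotientGroup.quotientKerEquivRange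
      ((QuotientGroup.mk' Q).comp (P : Subgroup G).subtype)).toEquiv
    have hker : ((QuotientGroup.mk' Q).comp (P : Subgroup G).subtype).ker =
        Q.subgroupOf (P : Subgroup G) := by
      rw [← MonoidHom.comap_ker, QuotientGroup.ker_mk']
      rfl
    have hrange : ((QuotientGroup.mk' Q).comp (P : Subgroup G).subtype).range =
        (Pb : Subgroup (G ⧸ Q)) := by
      rw [MonoidHom.range_comp, Subgroup.range_subtype, hPb]
    rw [hrange, hker] at h
    have h2 := Subgroup.card_eq_card_quotient_mul_card_subgroup (Q.subgroupOf (P : Subgroup G))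
    rw [Nat.card_congr (Subgroup.subgroupOfEquivOfLe hQP).toEquiv, hQ4, h] at h2
    rw [hcard] at h2
    omega
  have hsq' : ∀ a ∈ (Pb : Subgroup (G ⧸ Q)), a * a = 1 := by
    rw [hPb]
    rintro a ⟨v, hv, rfl⟩
    rw [← map_mul, hsq v hv, map_one]
  have hB : IsPBlock M (principalBlock M (G ⧸ Q)) := H41.isPBlock_principalBlock
  have hD := (S4652.result 2 M hM (Pb : Subgroup (G ⧸ Q))).2 ⟨Pb, rfl⟩
  obtain ⟨e, hm⟩ := H40.NilpotentBlocks.exists_isMaxEl_of_defect hM hB hD
  obtain ⟨he, -, hrank⟩ := H40.klein_four_invariants hM hB hm hD h4 hsq'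
  rw [hrank]
  refine he.resolve_left fun h1 => htC ?_
  have hone : blockRank 2 (principalBlock M G) = 1 := by
    rw [H40.blockRank_principal_quotient hM hQp hsup, hrank, h1]
  exact normalizer_le_centralizer_of_complement P (H40.comm_of_exponent_two hsq)
    ((H32.blockRank_principal_eq_one_iff hM).1 hone) ht

end Cfsg.Agent.H92.S69
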