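import Cfsg.Agent.H92.S69.Orbit
import Cfsg.Agent.H92.S69.Ranks
import Cfsg.Agent.H22.Fusion

/-!
# The fusion in an elementary Sylow subgroup of order sixteen with inertial index nine
-/

set_option autoImplicit false
set_option linter.unusedSectionVars false

namespace Cfsg.Agent.H92.S69

open Cfsg

universe u

variable {G : Type u} [Group G] [Finite G] {M : Ideal AlgInt}

/-- `y` spans, with its class, a four subgroup of the Sylow subgroup with rank three centraliser. -/
structure Part (M : Ideal AlgInt) (P : Subgroup G) (y : G) (V : Subgroup G) : Prop where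
  mem : y ∈ P
  ne : y ≠ 1
  le : V ≤ P
  card : Nat.card V = 4
  iff : ∀ v ∈ P, (v ∈ V ↔ v = 1 ∨ IsConj y v)
  rank : K34.secRank 2 M y = 3

/-- The three classes. -/
structure Classes (M : Ideal AlgInt) (P : Subgroup G) (x y z : G) (Vy Vz : Subgroup G) : Prop where
  memx : x ∈ P
  nex : x ≠ 1
  nilx : HasNormalPComplement 2 (Subgroup.centralizer ({x} : Set G))
  rankx : K34.secRank 2 M x = 1
  py : Part M P y Vy
  pz : Part M P z Vz
  nxy : ¬ IsConj x y
  nxz : ¬ IsConj x z
  nyz : ¬ IsConj y z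
  all : ∀ v ∈ P, v ≠ 1 → IsConj x v ∨ IsConj y v ∨ IsConj z v

theorem exists_classes (hM : IsPModular 2 M) (P : Sylow 2 G) (hcard : Nat.card P = 16)
    (hel : ∀ x : P, x ^ 2 = 1)
    (he : (Subgroup.centralizer ((P : Subgroup G) : Set G)).relIndex
      (Subgroup.normalizer ((P : Subgroup G) : Set G)) = 9) :
    ∃ (x y z : G) (Vy Vz : Subgroup G), Classes M (P : Subgroup G) x y z Vy Vz := by
  classical
  haveI := hM.2.1
  haveI := Fintype.ofFinite G
  have hsq : ∀ a ∈ (P : Subgroup G), a * a = 1 := fun a ha => by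
    have := congrArg Subtype.val (hel ⟨a, ha⟩)
    simpa [pow_two] using this
  have hab := H40.comm_of_exponent_two hsq
  have habI : IsMulCommutative P :=
    ⟨⟨fun a b => Subtype.ext (hab a a.2 b b.2)⟩⟩
  set φ := (P : Subgroup G).normalizerMonoidHom with hφ
  let A := φ.range
  have hA : Nat.card A = 9 := by
    have h : Nat.card A = φ.ker.index := (Subgroup.index_ker φ).symm
    rw [h, Subgroup.normalizerMonoidHom_ker]
    exact he
  have hfaith : ∀ a : A, (∀ v : (P : Subgroup G), a • v = v) → a = 1 :=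
    fun a ha => Subtype.ext (MulEquiv.ext fun v => ha v)
  obtain ⟨x, y, z, hx1, hy1, hz1, hsx, hsy, hsz, hyx, hzx, hzy, hall, hfy, hfz⟩ :=
    exists_orbits (A := A) (P := (P : Subgroup G)) hA hcard hfaith
  -- orbits are classes
  have horb : ∀ v w : (P : Subgroup G), w ∈ MulAction.orbit A v ↔ IsConj (v : G) w := by
    intro v w
    constructor
    · rintro ⟨⟨-, n, rfl⟩, rfl⟩
      exact isConj_iff.2 ⟨(n : G), rfl⟩
    · intro h
      obtain ⟨g, hg⟩ := isConj_iff.1 h
      obtain ⟨n, hn, hnv⟩ := H22.abelian_sylow_controls P habI v v.2 g (hg ▸ w.2)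
      exact ⟨⟨φ ⟨n, hn⟩, ⟨n, hn⟩, rfl⟩, Subtype.ext (hnv.trans hg)⟩
  -- stabilisers are centralisers in the normaliser
  have hstab : ∀ (v : (P : Subgroup G)) (n : G) (hn : n ∈ Subgroup.normalizer ((P : Subgroup G) : Set G)),
      (⟨φ ⟨n, hn⟩, ⟨n, hn⟩, rfl⟩ : A) ∈ MulAction.stabilizer A v ↔ n * (v : G) = v * n := by
    intro v n hn
    refine MulAction.mem_stabilizer_iff.trans ⟨fun h => ?_, fun h => Subtype.ext ?_⟩
    · exact mul_inv_eq_iff_eq_mul.1 (congrArg Subtype.val h)
    · exact mul_inv_eq_iff_eq_mul.2 h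
  have hnil : HasNormalPComplement 2 (Subgroup.centralizer ({(x : G)} : Set G)) := by
    have hPC : (P : Subgroup G) ≤ Subgroup.centralizer ({(x : G)} : Set G) := fun v hv =>
      Subgroup.mem_centralizer_singleton_iff.2 (hab v hv x x.2)
    refine complement_of_normalizer_le (P.subtype hPC) fun n hn => ?_
    have hn' : (n : G) ∈ Subgroup.normalizer ((P : Subgroup G) : Set G) := by
      refine Subgroup.mem_normalizer_iff.2 fun v => ⟨fun hv => ?_, fun hv => ?_⟩
      · exact Subgroup.mem_subgroupOf.1 ((Subgroup.mem_normalizer_iff.1 hn ⟨v, hPC hv⟩).1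
          (Subgroup.mem_subgroupOf.2 hv))
      · have hvC : v ∈ Subgroup.centralizer ({(x : G)} : Set G) := by
          have h := Subgroup.mul_mem _ (Subgroup.mul_mem _
            (Subgroup.inv_mem _ n.2) (hPC hv)) n.2
          simpa [mul_assoc] using h
        exact Subgroup.mem_subgroupOf.1 ((Subgroup.mem_normalizer_iff.1 hn ⟨v, hvC⟩).2
          (Subgroup.mem_subgroupOf.2 hv))
    have hs := (hstab x n hn').2 (Subgroup.mem_centralizer_singleton_iff.1 n.2)
    rw [hsx, Subgroup.mem_bot] at hs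
    have hker : (⟨(n : G), hn'⟩ : Subgroup.normalizer ((P : Subgroup G) : Set G)) ∈ φ.ker :=
      MonoidHom.mem_ker.2 (congrArg Subtype.val hs)
    rw [Subgroup.normalizerMonoidHom_ker] at hker
    refine Subgroup.mem_centralizer_iff.2 fun v hv => Subtype.ext ?_
    exact Subgroup.mem_centralizer_iff.1 (Subgroup.mem_subgroupOf.1 hker) _
      (Subgroup.mem_subgroupOf.1 hv)
  have hpart : ∀ v : (P : Subgroup G), v ≠ 1 → Nat.card (MulAction.stabilizer A v) = 3 →
      (∀ w : (P : Subgroup G), w ∈ (fixSub (MulAction.stabilizer A v) : Subgroup (P : Subgroup G)) ↔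
        w = 1 ∨ w ∈ MulAction.orbit A v) →
      ∃ V : Subgroup G, Part M (P : Subgroup G) v V := by
    intro v hv hst hfix
    set F : Subgroup (P : Subgroup G) := fixSub (MulAction.stabilizer A v) with hF
    set V := F.map (P : Subgroup G).subtype with hV
    have hVP : V ≤ (P : Subgroup G) := Subgroup.map_subtype_le _
    have hVc : Nat.card V = 4 := by
      rw [hV, Subgroup.card_map_of_injective (P : Subgroup G).subtype_injective]
      refine (card_fixSub hA hcard hfaith ?_).resolve_left fun h => hv ?_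
      · intro h; rw [h, Subgroup.card_bot] at hst; omega
      · have hmem : v ∈ (fixSub (MulAction.stabilizer A v) : Subgroup (P : Subgroup G)) :=
          fun k hk => hk
        rwa [Subgroup.card_eq_one.1 h, Subgroup.mem_bot] at hmem
    refine ⟨V, v.2, fun h => hv (Subtype.ext h), hVP, hVc, fun w hw => ?_, ?_⟩
    · rw [show w ∈ V ↔ (⟨w, hw⟩ : (P : Subgroup G)) ∈ F from ⟨fun ⟨a, ha, hae⟩ => by
          rwa [show (⟨w, hw⟩ : (P : Subgroup G)) = a from Subtype.ext hae.symm],
          fun h => ⟨_, h, rfl⟩⟩, hfix, horb]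
      exact or_congr ⟨fun h => congrArg Subtype.val h, fun h => Subtype.ext h⟩ Iff.rfl
    -- the rank of the centraliser
    set C := Subgroup.centralizer ({(v : G)} : Set G) with hC
    have hPC : (P : Subgroup G) ≤ C := fun w hw =>
      Subgroup.mem_centralizer_singleton_iff.2 (hab w hw v v.2)
    have hvV : (v : G) ∈ V := ⟨v, fun k hk => hk, rfl⟩
    obtain ⟨u, hu, hu1, huv⟩ : ∃ u ∈ V, u ≠ 1 ∧ u ≠ (v : G) := by
      haveI := Fintype.ofFinite V
      obtain ⟨⟨u, hu⟩, -, hu'⟩ := Finset.exists_mem_notMem_of_card_lt_card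
        (s := ({1, ⟨(v : G), hvV⟩} : Finset V)) (t := Finset.univ) (by
          refine lt_of_le_of_lt Finset.card_le_two ?_
          rw [Finset.card_univ, ← Nat.card_eq_fintype_card, hVc]
          norm_num)
      simp only [Finset.mem_insert, Finset.mem_singleton, not_or, Subtype.ext_iff] at hu'
      exact ⟨u, hu, fun e => hu'.1 (by simpa using e), hu'.2⟩
    have hfour : ∀ w ∈ V, w = 1 ∨ w = (v : G) ∨ w = u ∨ w = (v : G) * u := by
      haveI := Fintype.ofFinite V
      intro w hw
      by_contra hne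
      simp only [not_or] at hne
      have hvu : (v : G) * u ≠ 1 ∧ (v : G) * u ≠ v ∧ (v : G) * u ≠ u := by
        refine ⟨fun h => huv ?_, fun h => hu1 (by simpa using h), fun h => hv (Subtype.ext ?_)⟩
        · calc u = (v : G) * ((v : G) * u) := by rw [← mul_assoc, hsq v v.2, one_mul]
            _ = v := by rw [h, mul_one]
        · simpa using h
      have h5 : ({⟨1, V.one_mem⟩, ⟨(v : G), hvV⟩, ⟨u, hu⟩, ⟨(v : G) * u, V.mul_mem hvV hu⟩,
          ⟨w, hw⟩} : Finset V).card = 5 := by
        have hv1 : (v : G) ≠ 1 := fun h => hv (Subtype.ext h)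
        simp [Finset.card_insert_of_notMem, Subtype.ext_iff, Ne.symm hv1, Ne.symm hu1,
          Ne.symm hvu.1, Ne.symm hne.1, Ne.symm huv, Ne.symm hvu.2.1, Ne.symm hne.2.1,
          Ne.symm hvu.2.2, Ne.symm hne.2.2.1, Ne.symm hne.2.2.2]
      have := Finset.card_le_univ ({⟨1, V.one_mem⟩, ⟨(v : G), hvV⟩, ⟨u, hu⟩,
        ⟨(v : G) * u, V.mul_mem hvV hu⟩, ⟨w, hw⟩} : Finset V)
      rw [h5, ← Nat.card_eq_fintype_card, hVc] at this
      omega
    have hfixV : ∀ n ∈ Subgroup.normalizer ((P : Subgroup G) : Set G), n * (v : G) = v * n →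
        ∀ w ∈ V, n * w = w * n := by
      rintro n hn hnv _ ⟨w, hw, rfl⟩
      exact (hstab w n hn).1 (hw _ ((hstab v n hn).2 hnv))
    -- an element of the stabiliser
    obtain ⟨t, ht, htv, htP⟩ : ∃ t ∈ Subgroup.normalizer ((P : Subgroup G) : Set G),
        t * (v : G) = v * t ∧ t ∉ Subgroup.centralizer ((P : Subgroup G) : Set G) := by
      haveI : Nontrivial (MulAction.stabilizer A v) :=
        Finite.one_lt_card_iff_nontrivial.1 (by rw [hst]; norm_num)
      obtain ⟨⟨⟨a, n, rfl⟩, ha⟩, hne⟩ := exists_ne (1 : MulAction.stabilizer A v)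
      refine ⟨n, n.2, (hstab v n n.2).1 ha, fun h => hne ?_⟩
      refine Subtype.ext (Subtype.ext ?_)
      show φ n = 1
      rw [← MonoidHom.mem_ker, Subgroup.normalizerMonoidHom_ker]
      exact Subgroup.mem_subgroupOf.2 h
    set P' : Sylow 2 C := P.subtype hPC with hP'
    have habC : ∀ a ∈ (P' : Subgroup C), ∀ b ∈ (P' : Subgroup C), a * b = b * a :=
      fun a ha b hb => Subtype.ext (hab _ (Subgroup.mem_subgroupOf.1 ha) _ (Subgroup.mem_subgroupOf.1 hb))
    have huC : u ∈ C := hPC (hVP hu)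
    have hnorm : ∀ s : C, s ∈ Subgroup.normalizer ((P' : Subgroup C) : Set C) →
        (s : G) ∈ Subgroup.normalizer ((P : Subgroup G) : Set G) := by
      intro s hs
      refine Subgroup.mem_normalizer_iff.2 fun w => ⟨fun hw => ?_, fun hw => ?_⟩
      · exact Subgroup.mem_subgroupOf.1 ((Subgroup.mem_normalizer_iff.1 hs ⟨w, hPC hw⟩).1
          (Subgroup.mem_subgroupOf.2 hw))
      · have hwC : w ∈ C := by
          have h := C.mul_mem (C.mul_mem (C.inv_mem s.2) (hPC hw)) s.2
          simpa [mul_assoc] using h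
        exact Subgroup.mem_subgroupOf.1 ((Subgroup.mem_normalizer_iff.1 hs ⟨w, hwC⟩).2
          (Subgroup.mem_subgroupOf.2 hw))
    unfold K34.secRank
    rw [blockRank_eq_secRank hM P' habC (u := ⟨u, huC⟩) (Subgroup.mem_subgroupOf.2 (hVP hu))
      fun s hs => Subtype.ext (mul_inv_eq_iff_eq_mul.2
        (hfixV s (hnorm s hs) (Subgroup.mem_centralizer_singleton_iff.1 s.2) u hu))]
    -- the centraliser of the four subgroup
    set H := Subgroup.centralizer ({(⟨u, huC⟩ : C)} : Set C) with hH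
    have hPH : (P' : Subgroup C) ≤ H := fun a ha =>
      Subgroup.mem_centralizer_singleton_iff.2 (habC a ha _ (Subgroup.mem_subgroupOf.2 (hVP hu)))
    have htH : (⟨t, Subgroup.mem_centralizer_singleton_iff.2 htv⟩ : C) ∈ H :=
      Subgroup.mem_centralizer_singleton_iff.2 (Subtype.ext (hfixV t ht htv u hu))
    have hVC : V ≤ C := hVP.trans hPC
    have hVH : V.subgroupOf C ≤ H := fun a ha => hPH (Subgroup.mem_subgroupOf.2 (hVP ha))
    refine blockRank_eq_three hM (P'.subtype hPH) ?_ ?_ ((V.subgroupOf C).subgroupOf H) ?_ ?_ ?_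
      (t := (⟨_, htH⟩ : H)) ?_ ?_
    · exact (Nat.card_congr ((Subgroup.subgroupOfEquivOfLe hPH).trans
        (Subgroup.subgroupOfEquivOfLe hPC)).toEquiv).trans hcard
    · exact fun a ha => Subtype.ext (Subtype.ext (hsq _ ha))
    · exact fun a ha => hVP ha
    · exact (Nat.card_congr ((Subgroup.subgroupOfEquivOfLe hVH).trans
        (Subgroup.subgroupOfEquivOfLe hVC)).toEquiv).trans hVc
    · intro a ha
      refine Subgroup.mem_center_iff.2 fun g => Subtype.ext (Subtype.ext ?_)
      have hgv : ((g : C) : G) * (v : G) = v * ((g : C) : G) :=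
        Subgroup.mem_centralizer_singleton_iff.1 (g : C).2
      have hgu : ((g : C) : G) * u = u * ((g : C) : G) :=
        congrArg Subtype.val (Subgroup.mem_centralizer_singleton_iff.1 g.2)
      show ((g : C) : G) * ((a : C) : G) = ((a : C) : G) * ((g : C) : G)
      rcases hfour _ (show ((a : C) : G) ∈ V from ha) with e | e | e | e <;> rw [e]
      · simp
      · exact hgv
      · exact hgu
      · rw [← mul_assoc, hgv, mul_assoc, hgu, ← mul_assoc]
    · refine Subgroup.mem_normalizer_iff.2 fun w => ?_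
      exact Subgroup.mem_normalizer_iff.1 ht ((w : C) : G)
    · exact fun h => htP (Subgroup.mem_centralizer_iff.2 fun w hw =>
        congrArg (fun a : H => ((a : C) : G))
          (Subgroup.mem_centralizer_iff.1 h ⟨⟨w, hPC hw⟩, hPH (Subgroup.mem_subgroupOf.2 hw)⟩ hw))
  obtain ⟨Vy, hVy⟩ := hpart y hy1 hsy hfy
  obtain ⟨Vz, hVz⟩ := hpart z hz1 hsz hfz
  haveI := Fintype.ofFinite (Subgroup.centralizer ({(x : G)} : Set G))
  refine ⟨x, y, z, Vy, Vz, x.2, fun h => hx1 (Subtype.ext h), hnil,
    (H32.blockRank_principal_eq_one_iff hM).2 hnil, hVy, hVz,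
    fun h => hyx ((horb x y).2 h), fun h => hzx ((horb x z).2 h), fun h => hzy ((horb y z).2 h),
    fun v hv hv1 => ?_⟩
  have := hall ⟨v, hv⟩ fun h => hv1 (congrArg Subtype.val h)
  simpa only [horb] using this

end Cfsg.Agent.H92.S69
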