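import Cfsg.Agent.H92.K34.Basic
import Cfsg.Agent.H39.PiSection
import Cfsg.Agent.H22.StarDef
import Cfsg.Agent.H40.StarTrace
import Cfsg.Agent.H56.PrincipalSmallCentralizer

/-!
# Multiplying the principal block by functions of the `p`-part
-/

set_option autoImplicit false
set_option linter.unusedSectionVars false

open scoped ComplexConjugate

namespace Cfsg.Agent.H92.S69

open Cfsg
open Cfsg.Agent.H22 (pp)

universe u

/-- The rational integers inside the complex numbers. -/
noncomputable abbrev ZZ : Subring ℂ := (Int.castRingHom ℂ).range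

variable {G : Type u} [Group G] [Fintype G] {p : ℕ} [hp : Fact p.Prime] {M : Ideal AlgInt}

/-- A class function read at the `p`-part is generalized as soon as it is on a Sylow subgroup. -/
theorem comp_pp_mem {f : G → ℂ} (hf : IsClassFunction G f) (P : Sylow p G)
    [Fintype (P : Subgroup G)]
    (hP : (fun v : (P : Subgroup G) => f (v : G)) ∈ H39.coeffSpan ZZ (P : Subgroup G)) :
    (fun g => f (pp p g)) ∈ H39.coeffSpan ZZ G := by
  classical
  set a := (Nat.card G).factorization p with ha
  have hG : Nat.card G ≠ 0 := Nat.card_pos.ne'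
  set n := p ^ a with hn
  set m := Nat.card G / n with hm
  have hmn : Nat.card G = m * n :=
    (Nat.div_mul_cancel (Nat.ordProj_dvd (Nat.card G) p)).symm
  have hmp : ¬ p ∣ m := Nat.not_dvd_ordCompl hp.out hG
  have hcop : Nat.Coprime m n :=
    ((Nat.Prime.coprime_iff_not_dvd hp.out).2 hmp).symm.pow_right a
  obtain ⟨k, hk0, hk1⟩ := H39.exists_partExp hcop
  have hpp : ∀ g : G, pp p g = g ^ k := fun g => by
    refine H22.pp_eq ⟨g * (g ^ k)⁻¹, ?_, ?_, ?_, ?_⟩
    · rw [← mul_assoc, ((Commute.refl g).pow_left k).eq, mul_inv_cancel_right]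
    · exact ((Commute.refl g).pow_left k).mul_right (Commute.refl (g ^ k)).inv_right
    · obtain ⟨j, -, hj⟩ := (Nat.dvd_prime_pow hp.out).1 (H39.orderOf_pow_partExp_dvd hmn hk0 g)
      exact ⟨j, hj⟩
    · exact fun h => hmp (h.trans (H39.orderOf_mul_inv_partExp_dvd hmn hk1 g))
  refine H39.classFun_induction_elementary G _ _ (fun g h => ?_) fun E q φ hq hE => ?_
  · show f (pp p (h * g * h⁻¹)) = f (pp p g)
    rw [H22.pp_conj, hf]
  · obtain ⟨π, hπ⟩ := H39.exists_powHom hq hE (hmn ▸ E.card_subgroup_dvd_card) hcop hk0 hk1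
    have hR := H39.card_range_powHom_dvd (hmn ▸ E.card_subgroup_dvd_card) hcop hk0 π hπ
    set ι : π.range →* G := E.subtype.comp π.range.subtype with hι
    have hιp : IsPGroup p ι.range := by
      obtain ⟨i, -, hi⟩ := (Nat.dvd_prime_pow hp.out).1 hR
      exact (IsPGroup.of_card hi).of_surjective ι.rangeRestrict ι.rangeRestrict_surjective
    obtain ⟨T, hT⟩ := hιp.exists_le_sylow
    obtain ⟨c, hc⟩ := MulAction.exists_smul_eq G T P
    let ρ : π.range →* (P : Subgroup G) :=
      ((MulAut.conj c).toMonoidHom.comp ι).codRestrict _ fun r => by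
        rw [← hc]
        exact Subgroup.smul_mem_pointwise_smul _ (MulAut.conj c) (T : Subgroup G) (hT ⟨r, rfl⟩)
    let L : (↥(P : Subgroup G) → ℂ) →ₗ[ℂ] (π.range → ℂ) :=
      { toFun := fun F => fun r => F (ρ r)
        map_add' := fun _ _ => rfl
        map_smul' := fun _ _ => rfl }
    have h1 : (fun r : π.range => f (((r : E)) : G)) ∈ H39.coeffSpan ZZ π.range := by
      have h := H39.map_mem_coeffSpan L
        (fun χ => H26.isCharacter_comp (H26.irr_isCharacter χ) ρ) hP
      have e : L (fun v : (P : Subgroup G) => f (v : G)) = fun r : π.range => f (((r : E)) : G) :=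
        funext fun r => hf _ c
      rwa [e] at h
    have h2 := H39.indFun_pullback_mem E φ π.rangeRestrict h1
    simpa [hπ, hpp] using h2

variable (p) in
/-- The inner product of `f (g_p) χ g` with `ψ`. -/
noncomputable def pair (f : G → ℂ) (χ ψ : IrrCharacter G) : ℂ :=
  classInner (fun g => f (pp p g) * χ.1 g) ψ.1

theorem exists_int_pair {f : G → ℂ} (hf : IsClassFunction G f) (P : Sylow p G)
    [Fintype (P : Subgroup G)]
    (hP : (fun v : (P : Subgroup G) => f (v : G)) ∈ H39.coeffSpan ZZ (P : Subgroup G))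
    (χ ψ : IrrCharacter G) : ∃ z : ℤ, pair p f χ ψ = (z : ℂ) := by
  let L : (G → ℂ) →ₗ[ℂ] (G → ℂ) :=
    { toFun := fun F => fun g => F g * χ.1 g
      map_add' := fun a b => funext fun g => add_mul _ _ _
      map_smul' := fun c a => funext fun g => by simp [mul_assoc] }
  have h := (H39.map_mem_coeffSpan L
    (fun η => H26.isCharacter_mul (H26.irr_isCharacter η) (H26.irr_isCharacter χ))
    (comp_pp_mem hf P hP)).2 ψ
  obtain ⟨z, hz⟩ := h
  exact ⟨z, hz.symm⟩

theorem conj_pair {f : G → ℂ} (hf : ∀ g, conj (f g) = f g) (χ ψ : IrrCharacter G) :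
    conj (pair p f χ ψ) = pair p f ψ χ := by
  simp only [pair, classInner, map_mul, map_inv₀, map_natCast, map_sum, hf, Complex.conj_conj]
  congr 1
  exact Finset.sum_congr rfl fun g _ => by ring

theorem pair_add (f f' : G → ℂ) (χ ψ : IrrCharacter G) :
    pair p (f + f') χ ψ = pair p f χ ψ + pair p f' χ ψ := by
  simp only [pair, classInner, Pi.add_apply, add_mul, Finset.sum_add_distrib, mul_add]

theorem pair_smul (c : ℂ) (f : G → ℂ) (χ ψ : IrrCharacter G) :
    pair p (c • f) χ ψ = c * pair p f χ ψ := by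
  simp only [pair, classInner, Pi.smul_apply, smul_eq_mul, Finset.mul_sum]
  exact Finset.sum_congr rfl fun g _ => by ring

theorem pair_const (c : ℂ) (χ ψ : IrrCharacter G) :
    pair p (fun _ => c) χ ψ = if χ = ψ then c else 0 := by
  have h := H26.classInner_irr χ ψ
  simp only [classInner] at h
  simp only [pair, classInner, mul_assoc, ← Finset.mul_sum]
  rw [mul_left_comm, h]
  split_ifs <;> simp

open scoped Classical in
/-- On a section a member of the principal block is its own principal part. -/
theorem blockPart_principal (hM : IsPModular p M) {x : G} (hx : ∃ j, orderOf x = p ^ j)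
    (L : Subgroup G) (hL : L = Subgroup.centralizer ({x} : Set G)) (χ : IrrCharacter G) {s : L}
    (hs : ¬ p ∣ orderOf s) :
    blockPart (principalBlock M L) (fun c : L => χ.1 (x * (c : G))) s =
      if χ ∈ principalBlock M G then χ.1 (x * (s : G)) else 0 := by
  haveI := hM.2.1
  subst hL
  haveI := Fintype.ofFinite (Subgroup.centralizer ({x} : Set G))
  have hϑc : IsClassFunction (Subgroup.centralizer ({x} : Set G)) (fun c : Subgroup.centralizer ({x} : Set G) => χ.1 (x * (c : G))) := fun c d => by
    have hd := Subgroup.mem_centralizer_singleton_iff.1 d.2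
    show χ.1 (x * ((d * c * d⁻¹ : Subgroup.centralizer ({x} : Set G)) : G)) = χ.1 (x * (c : G))
    rw [← H26.irr_conj χ (x * (c : G)) (d : G)]
    congr 1
    push_cast
    rw [← mul_assoc (d : G) x, hd]
    simp [mul_assoc]
  by_cases hχ : χ ∈ principalBlock M G
  · rw [if_pos hχ]
    refine Eq.trans (Eq.symm ?_) (H32.sum_blockPart_blocks M hϑc s).symm
    refine Finset.sum_eq_single_of_mem _ (Finset.mem_image.2 ⟨H26.oneIrr (Subgroup.centralizer ({x} : Set G)), Finset.mem_univ _, ?_⟩)
      fun b hb hne => ?_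
    · exact (H41.principalBlock_eq (G := Subgroup.centralizer ({x} : Set G))).symm
    · obtain ⟨ξ, -, rfl⟩ := Finset.mem_image.1 hb
      exact S0923.result p M hM x hx _ H41.isPBlock_principalBlock χ hχ _
        (H41.isPBlock_blockOf ξ) (fun h => hne ((K34.isInduced_iff hM hx _).1 h)) s hs
  · rw [if_neg hχ]
    refine S0923.result p M hM x hx _ (H41.isPBlock_blockOf χ) χ (H41.mem_blockOf_self χ) _
      H41.isPBlock_principalBlock (fun h => hχ ?_) s hs
    rw [H32.isInducedBlock_unique ((K34.isInduced_iff hM hx _).2 rfl) h]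
    exact H41.mem_blockOf_self χ

open scoped Classical in
/-- Different blocks are orthogonal on each section. -/
theorem sum_section_eq_zero (hM : IsPModular p M) {x : G} (hx : ∃ j, orderOf x = p ^ j)
    {χ ψ : IrrCharacter G} (hχ : χ ∈ principalBlock M G) (hψ : ψ ∉ principalBlock M G) :
    ∑ s ∈ Finset.univ.filter
      (fun s : Subgroup.centralizer ({x} : Set G) => IsPRegular p s),
      χ.1 (x * (s : G)) * conj (ψ.1 (x * (s : G))) = 0 := by
  haveI := hM.2.1
  set C := Subgroup.centralizer ({x} : Set G) with hC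
  set θ : IrrCharacter G → C → ℂ := fun η c => η.1 (x * (c : G))
  have hθ : IsClassFunction C (θ ψ) := fun c d => by
    have hd := Subgroup.mem_centralizer_singleton_iff.1 d.2
    show ψ.1 (x * ((d * c * d⁻¹ : C) : G)) = ψ.1 (x * (c : G))
    rw [← H26.irr_conj ψ (x * (c : G)) (d : G)]
    congr 1
    push_cast
    rw [← mul_assoc (d : G) x, hd]
    simp [mul_assoc]
  rw [Finset.sum_congr rfl (g := fun s =>
    ∑ b ∈ Finset.univ.image (fun ξ : IrrCharacter C => blockOf M (ξ : C → ℂ)),
      blockPart (principalBlock M C) (θ χ) s * conj (blockPart b (θ ψ) s)) fun s hs => ?_]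
  · rw [Finset.sum_comm]
    refine Finset.sum_eq_zero fun b hb => ?_
    obtain ⟨ξ, -, rfl⟩ := Finset.mem_image.1 hb
    by_cases hb0 : blockOf M (ξ : C → ℂ) = principalBlock M C
    · refine Finset.sum_eq_zero fun s hs => ?_
      rw [hb0, blockPart_principal hM hx C hC ψ (Finset.mem_filter.1 hs).2, if_neg hψ, map_zero,
        mul_zero]
    · exact H40.StarNorm.sum_regular_blockPart_eq_zero hM H41.isPBlock_principalBlock
        (H41.isPBlock_blockOf ξ) (Ne.symm hb0) _ _
  · rw [← Finset.mul_sum, ← map_sum, ← H32.sum_blockPart_blocks M hθ s,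
      blockPart_principal hM hx C hC χ (Finset.mem_filter.1 hs).2, if_pos hχ]

/-- A complete set of representatives of the classes of `p`-elements. -/
def IsRepSet (p : ℕ) (X : Finset G) : Prop :=
  (∀ x ∈ X, ∃ j, orderOf x = p ^ j) ∧
    ∀ g : G, (∃ j, orderOf g = p ^ j) → ∃! x, x ∈ X ∧ IsConj g x

open scoped Classical in
theorem pair_eq_sum {X : Finset G} (hX : IsRepSet p X) {f : G → ℂ} (hf : IsClassFunction G f)
    (χ ψ : IrrCharacter G) :
    pair p f χ ψ = ∑ x ∈ X, f x * ((Nat.card (Subgroup.centralizer ({x} : Set G)) : ℂ)⁻¹ *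
      ∑ s ∈ Finset.univ.filter
        (fun s : Subgroup.centralizer ({x} : Set G) => IsPRegular p s),
        χ.1 (x * (s : G)) * conj (ψ.1 (x * (s : G)))) := by
  have hcl : IsClassFunction G (fun g => f (pp p g) * χ.1 g * conj (ψ.1 g)) := fun g h => by
    simp only [H22.pp_conj, hf _ h, H26.irr_conj]
  rw [pair, classInner, H32.sum_eq_sum_sections hX.1 hX.2 hcl, Finset.mul_sum]
  refine Finset.sum_congr rfl fun x hx => ?_
  obtain ⟨j, hj⟩ := hX.1 x hx
  rw [Finset.sum_congr rfl (g := fun s : Subgroup.centralizer ({x} : Set G) =>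
    f x * (χ.1 (x * (s : G)) * conj (ψ.1 (x * (s : G))))) fun s hs => ?_, ← Finset.mul_sum]
  · have hG : (Nat.card G : ℂ) ≠ 0 := Nat.cast_ne_zero.2 Nat.card_pos.ne'
    field_simp
  · have hc : Commute x (s : G) := (Subgroup.mem_centralizer_singleton_iff.1 s.2).symm
    rw [H22.pp_eq (H40.isPPart_mul hc hj (by rw [Subgroup.orderOf_coe]; exact (Finset.mem_filter.1 hs).2))]
    ring

theorem pair_eq_zero (hM : IsPModular p M) {X : Finset G} (hX : IsRepSet p X) {f : G → ℂ}
    (hf : IsClassFunction G f) {χ ψ : IrrCharacter G} (hχ : χ ∈ principalBlock M G)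
    (hψ : ψ ∉ principalBlock M G) : pair p f χ ψ = 0 := by
  rw [pair_eq_sum hX hf]
  refine Finset.sum_eq_zero fun x hx => ?_
  rw [sum_section_eq_zero hM (hX.1 x hx) hχ hψ, mul_zero, mul_zero]

/-- Multiplying functions multiplies the matrices. -/
theorem sum_pair_mul (hM : IsPModular p M) {X : Finset G} (hX : IsRepSet p X) {f : G → ℂ}
    (hf : IsClassFunction G f) (f' : G → ℂ) {χ : IrrCharacter G} (hχ : χ ∈ principalBlock M G)
    (ψ : IrrCharacter G) :
    ∑ η ∈ EC.B0 M G, pair p f χ η * pair p f' η ψ = pair p (fun g => f g * f' g) χ ψ := by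
  classical
  rw [Finset.sum_subset (Finset.subset_univ _) fun η _ hη => by
    rw [pair_eq_zero hM hX hf hχ (fun h => hη (EC.mem_B0.2 h)), zero_mul]]
  have hF : IsClassFunction G (fun g => f (pp p g) * χ.1 g) := fun g h => by
    simp only [H22.pp_conj, hf _ h, H26.irr_conj]
  have hexp : ∀ g, f (pp p g) * χ.1 g = ∑ η : IrrCharacter G, pair p f χ η * η.1 g := fun g => by
    have := congrFun (H26.class_function_expansion _ hF) g
    simpa [pair, Finset.sum_apply] using this
  simp only [pair, classInner] at hexp ⊢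
  simp only [Finset.mul_sum]
  rw [Finset.sum_comm]
  refine Finset.sum_congr rfl fun g _ => ?_
  rw [show f (pp p g) * f' (pp p g) * χ.1 g = f' (pp p g) * (f (pp p g) * χ.1 g) by ring, hexp g,
    Finset.mul_sum, Finset.sum_mul, Finset.mul_sum]
  refine Finset.sum_congr rfl fun η _ => ?_
  simp only [← Finset.mul_sum]
  ring

open scoped Classical in
/-- The trace is the weighted sum of the ranks. -/
theorem sum_pair_self (hM : IsPModular p M) {X : Finset G} (hX : IsRepSet p X) {f : G → ℂ}
    (hf : IsClassFunction G f) :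
    ∑ χ ∈ EC.B0 M G, pair p f χ χ = ∑ x ∈ X, f x * (K34.secRank p M x : ℂ) := by
  haveI := hM.2.1
  simp only [pair_eq_sum hX hf]
  rw [Finset.sum_comm]
  refine Finset.sum_congr rfl fun x hx => ?_
  rw [← Finset.mul_sum, ← Finset.mul_sum, Finset.sum_comm]
  congr 1
  have hK : Subgroup.centralizer ({x} : Set G) =
      Subgroup.centralizer (Subgroup.zpowers x : Set G) := by
    ext z
    rw [H32.mem_centralizer_zpowers_iff, Subgroup.mem_centralizer_singleton_iff]
    exact ⟨fun h => h, fun h => h.eq⟩
  have h := H32.sum_section_norm hM H41.isPBlock_principalBlock (hX.1 x hx) _ hK rfl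
  have hset : {b : Set (IrrCharacter (Subgroup.centralizer ({x} : Set G))) |
      IsInducedBlock M (Subgroup.centralizer ({x} : Set G)) b (principalBlock M G)} =
      {principalBlock M (Subgroup.centralizer ({x} : Set G))} := by
    ext b
    exact K34.isInduced_iff hM (hX.1 x hx) b
  rw [hset, finsum_mem_singleton] at h
  rw [show (∑ s ∈ Finset.univ.filter (fun s : Subgroup.centralizer ({x} : Set G) =>
      IsPRegular p s), ∑ χ ∈ EC.B0 M G, χ.1 (x * (s : G)) * conj (χ.1 (x * (s : G)))) = _ from h,
    inv_mul_cancel_left₀ (Nat.cast_ne_zero.2 Nat.card_pos.ne')]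
  rfl

/-- A major section sees every member of the principal block beside the trivial character. -/
theorem sum_section_ne_zero (hM : IsPModular p M) {x : G} (hx : ∃ j, orderOf x = p ^ j)
    (hmaj : (Nat.card (Subgroup.centralizer ({x} : Set G))).factorization p =
      (Nat.card G).factorization p) {χ : IrrCharacter G} (hχ : χ ∈ principalBlock M G) :
    open scoped Classical in
    ∑ s ∈ Finset.univ.filter
      (fun s : Subgroup.centralizer ({x} : Set G) => IsPRegular p s), χ.1 (x * (s : G)) ≠ 0 := by
  classical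
  haveI := hM.2.1
  intro h0
  have hK : Subgroup.centralizer ({x} : Set G) = H40.StarTrace.CZ x := by
    ext z
    rw [H32.mem_centralizer_zpowers_iff, Subgroup.mem_centralizer_singleton_iff]
    exact ⟨fun h => h, fun h => h.eq⟩
  have hind := H56.Subsec.induced_principal (p := p) (M := M) hM hx
  have h1 : H26.oneIrr G ∈ principalBlock M G := EC.mem_B0.1 (EC.one_mem_B0 hM)
  have hbd : blockDefect p (principalBlock M (H40.StarTrace.CZ x)) =
      blockDefect p (principalBlock M G) := by
    rw [H56.Subsec.blockDefect_principal, H56.Subsec.blockDefect_principal, ← hmaj, hK]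
  have hh : blockHeight p (principalBlock M G) ((H26.oneIrr G : IrrCharacter G) : G → ℂ) = 0 := by
    rw [blockHeight, H42.charDegree_of_eq_nat (n := 1) (by simp [H26.oneIrr_val]),
      Nat.factorization_one]
    simp
  have hne := mt (H56.Subsec.res_redCont_eq_zero_iff hM hx hind hbd h1 hχ).1 (fun h => h hh)
  refine hne ?_
  rw [← map_zero (H41.res M)]
  refine congrArg _ (Subtype.ext ?_)
  show H56.Subsec.redCont p x _ _ _ _ = 0
  rw [H56.Subsec.redCont, H56.Subsec.cont_one_eq H41.isPBlock_principalBlock]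
  have hb : ∀ (η : IrrCharacter G), η ∈ principalBlock M G → ∀ s : H40.StarTrace.CZ x,
      H56.Subsec.bpart p x (principalBlock M (H40.StarTrace.CZ x)) η s =
        if IsPRegular p s then η.1 (x * (s : G)) else 0 := by
    intro η hη s
    rw [H40.StarTrace.bpart_eq_secPart]
    split_ifs with hs
    · rw [H40.StarNorm.secPart, blockPart_principal hM hx _ hK.symm η hs, if_pos hη]
    · rfl
  rw [Finset.sum_congr rfl fun s _ => by rw [hb _ h1 s, hb _ hχ s]]
  have h2 : ∑ s : H40.StarTrace.CZ x,
      (if IsPRegular p s then (H26.oneIrr G).1 (x * (s : G)) else 0) *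
        conj (if IsPRegular p s then χ.1 (x * (s : G)) else 0) =
      conj (∑ s ∈ Finset.univ.filter (fun s : H40.StarTrace.CZ x => IsPRegular p s),
        χ.1 (x * (s : G))) := by
    rw [map_sum, Finset.sum_filter]
    refine Finset.sum_congr rfl fun s _ => ?_
    split_ifs <;> simp [H26.oneIrr_val]
  rw [h2]
  have key : ∀ (K : Subgroup G) [Fintype K], K = Subgroup.centralizer ({x} : Set G) →
      ∑ s ∈ Finset.univ.filter (fun s : K => IsPRegular p s), χ.1 (x * (s : G)) = 0 := by
    intro K _ hK'
    subst hK'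
    convert h0
  rw [key _ hK.symm, map_zero, mul_zero, mul_zero, zero_div]

end Cfsg.Agent.H92.S69
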