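import Cfsg.Agent.H92.S69.Matrix
import Cfsg.Agent.H92.S69.Theta
import Cfsg.Agent.H92.S69.Local

/-!
# The principal block: sixteen characters, rank nine
-/

set_option autoImplicit false
set_option linter.unusedSectionVars false
set_option maxHeartbeats 1000000

open scoped ComplexConjugate

namespace Cfsg.Agent.H92.S69

open Cfsg

universe u

variable {G : Type u} [Group G] [Fintype G] {M : Ideal AlgInt}

/-- `4` times the indicator of a subgroup of order four is generalized on a group of order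
sixteen, as is `16` times the indicator of the identity. -/
theorem four_indicator_mem {P : Subgroup G} [Fintype P] (hP : Nat.card P = 16)
    (hab : ∀ a ∈ P, ∀ b ∈ P, a * b = b * a) {V : Subgroup G}
    (hVP : V ≤ P) (hV : Nat.card V = 4) [DecidablePred (· ∈ V)] :
    (fun v : P => if (v : G) ∈ V then (4 : ℂ) else 0) ∈ H39.coeffSpan ZZ P := by
  classical
  refine ⟨fun g h => ?_, fun χ => ?_⟩
  · have e : h * g * h⁻¹ = g := by
      rw [show h * g = g * h from Subtype.ext (hab h h.2 g g.2), mul_inv_cancel_right]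
    simp only [e]
  · haveI := Fintype.ofFinite V
    obtain ⟨n, hn⟩ := H26.exists_nat_classInner_irr
      (H26.isCharacter_comp (H26.irr_isCharacter χ) (Subgroup.inclusion hVP)) (H26.oneIrr V)
    refine ⟨(n : ℤ), ?_⟩
    have h2 : ∑ v : V, χ.1 (Subgroup.inclusion hVP v) = 4 * (n : ℂ) := by
      rw [← hn, classInner, hV]
      simp [H26.oneIrr_val]
    have h3 : ∑ v : P, (if (v : G) ∈ V then χ.1 v else 0) =
        ∑ v : V, χ.1 (Subgroup.inclusion hVP v) := by
      rw [← Finset.sum_filter]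
      exact Finset.sum_bij' (fun v hv => (⟨(v : G), (Finset.mem_filter.1 hv).2⟩ : V))
        (fun v _ => Subgroup.inclusion hVP v) (fun _ _ => Finset.mem_univ _)
        (fun v _ => Finset.mem_filter.2 ⟨Finset.mem_univ _, v.2⟩) (fun v _ => rfl)
        (fun v _ => rfl) (fun v _ => rfl)
    have h4 : ∑ v : P, (if (v : G) ∈ V then (4 : ℂ) else 0) * conj (χ.1 v) =
        4 * conj (∑ v : P, (if (v : G) ∈ V then χ.1 v else 0)) := by
      rw [map_sum, Finset.mul_sum]
      refine Finset.sum_congr rfl fun v _ => ?_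
      split_ifs <;> simp
    rw [classInner, h4, h3, h2, hP, map_mul, Complex.conj_natCast]
    simp only [eq_intCast, Int.cast_natCast, map_ofNat]
    push_cast
    ring

theorem const_mem {P : Subgroup G} [Fintype P] (z : ℤ) :
    (fun _ : P => (z : ℂ)) ∈ H39.coeffSpan ZZ P := by
  have h := H39.smul_mem_coeffSpan (S := ZZ) (c := (z : ℂ)) ⟨z, rfl⟩
    (H39.char_mem_coeffSpan (S := ZZ) (H26.irr_isCharacter (H26.oneIrr P)))
  have e : (z : ℂ) • (H26.oneIrr P).1 = fun _ : P => (z : ℂ) :=
    funext fun v => by simp [H26.oneIrr_val]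
  rwa [e] at h

theorem regular_mem {P : Subgroup G} [Fintype P] [DecidableEq G] :
    (fun v : P => if (v : G) = 1 then (Nat.card P : ℂ) else 0) ∈ H39.coeffSpan ZZ P := by
  refine ⟨fun g h => ?_, fun χ => ⟨(Cfsg.charDegree χ.1 : ℤ), ?_⟩⟩
  · refine if_congr ?_ rfl rfl
    rw [OneMemClass.coe_eq_one, OneMemClass.coe_eq_one, conj_eq_one_iff]
  · rw [classInner, Finset.sum_eq_single (1 : P)]
    · rw [OneMemClass.coe_one, if_pos rfl, ← mul_assoc,
        inv_mul_cancel₀ (Nat.cast_ne_zero.2 Nat.card_pos.ne'), one_mul, H43.irr_charDegree_spec,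
        Complex.conj_natCast]
      simp
    · intro v _ hv
      rw [if_neg (show ¬ ((v : G) = 1) from fun h => hv (Subtype.ext h)), zero_mul]
    · intro h; exact absurd (Finset.mem_univ _) h

/-- The indicator of a class. -/
noncomputable def cls (x : G) : G → ℂ :=
  open scoped Classical in fun g => if IsConj x g then 1 else 0

theorem isClassFunction_cls (x : G) : IsClassFunction G (cls x) := by
  classical
  intro g h
  have : IsConj g (h * g * h⁻¹) := isConj_iff.2 ⟨h, rfl⟩
  exact if_congr ⟨fun hh => hh.trans this.symm, fun hh => hh.trans this⟩ rfl rfl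

theorem conj_cls (x g : G) : conj (cls x g) = cls x g := by
  classical
  unfold cls
  split_ifs <;> simp

/-- The number of regular elements with a normal complement. -/
theorem card_regular_mul {C : Type*} [Group C] [Fintype C]
    [DecidablePred (fun s : C => IsPRegular 2 s)] (hC : HasNormalPComplement 2 C) :
    ((Finset.univ : Finset C).filter (fun s => IsPRegular 2 s)).card *
      2 ^ (Nat.card C).factorization 2 = Nat.card C := by
  classical
  obtain ⟨P, N, hN, hNc⟩ := hC
  haveI := hN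
  haveI := Fintype.ofFinite N
  have hidx : N.index = 2 ^ (Nat.card C).factorization 2 := by
    rw [hNc.symm.index_eq_card, P.card_eq_multiplicity]
  have hodd : ¬ 2 ∣ Nat.card N := by
    intro hd
    refine P.not_dvd_index ?_
    rwa [hNc.index_eq_card]
  have hset : ((Finset.univ : Finset C).filter (fun s => IsPRegular 2 s)) =
      Finset.univ.filter (· ∈ N) := by
    ext s
    simp only [Finset.mem_filter, Finset.mem_univ, true_and]
    refine ⟨fun hs => ?_, fun hs hd => hodd (hd.trans ?_)⟩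
    · rw [← QuotientGroup.eq_one_iff, ← orderOf_eq_one_iff]
      have h1 : orderOf ((s : C ⧸ N)) ∣ orderOf s := orderOf_map_dvd (QuotientGroup.mk' N) s
      have h2 : orderOf ((s : C ⧸ N)) ∣ 2 ^ (Nat.card C).factorization 2 := by
        rw [← hidx, Subgroup.index]
        exact orderOf_dvd_natCard _
      exact Nat.eq_one_of_dvd_coprimes
        (((Nat.Prime.coprime_iff_not_dvd Nat.prime_two).2 hs).symm.pow_right _) h1 h2
    · exact Subgroup.orderOf_dvd_natCard N hs
  rw [hset, ← hidx, ← Fintype.card_subtype, ← Nat.card_eq_fintype_card]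
  exact N.card_mul_index

open scoped Classical in
theorem invariants (hM : IsPModular 2 M) (P : Sylow 2 G) (hcard : Nat.card P = 16)
    (hel : ∀ x : P, x ^ 2 = 1)
    (he : (Subgroup.centralizer ((P : Subgroup G) : Set G)).relIndex
      (Subgroup.normalizer ((P : Subgroup G) : Set G)) = 9) :
    Nat.card (principalBlock M G) = 16 ∧ blockRank 2 (principalBlock M G) = 9 := by
  haveI := hM.2.1
  haveI : Fintype (P : Subgroup G) := Fintype.ofFinite _
  obtain ⟨x, y, z, Vy, Vz, hC⟩ := exists_classes hM P hcard hel he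
  have hsq : ∀ a ∈ (P : Subgroup G), a * a = 1 := fun a ha => by
    have := congrArg Subtype.val (hel ⟨a, ha⟩)
    simpa [pow_two] using this
  have hab := H40.comm_of_exponent_two hsq
  have hord : ∀ v ∈ (P : Subgroup G), ∃ j, orderOf v = 2 ^ j := fun v hv => by
    obtain ⟨j, hj⟩ := IsPGroup.iff_orderOf.1 P.2 ⟨v, hv⟩
    exact ⟨j, by rwa [← Subgroup.orderOf_coe] at hj⟩
  have h1x : (1 : G) ≠ x := fun h => hC.nex h.symm
  have h1y : (1 : G) ≠ y := fun h => hC.py.ne h.symm
  have h1z : (1 : G) ≠ z := fun h => hC.pz.ne h.symm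
  have hxy : x ≠ y := fun h => hC.nxy (h ▸ IsConj.refl x)
  have hxz : x ≠ z := fun h => hC.nxz (h ▸ IsConj.refl x)
  have hyz : y ≠ z := fun h => hC.nyz (h ▸ IsConj.refl y)
  set X : Finset G := {1, x, y, z} with hXdef
  have hX : IsRepSet 2 X := by
    refine ⟨fun v hv => ?_, fun g hg => ?_⟩
    · simp only [hXdef, Finset.mem_insert, Finset.mem_singleton] at hv
      rcases hv with rfl | rfl | rfl | rfl
      exacts [⟨0, by simp⟩, hord _ hC.memx, hord _ hC.py.mem, hord _ hC.pz.mem]
    · obtain ⟨j, hj⟩ := hg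
      obtain ⟨T, hT⟩ := (IsPGroup.of_card (n := j)
        (show Nat.card (Subgroup.zpowers g) = 2 ^ j by rw [Nat.card_zpowers, hj])).exists_le_sylow
      obtain ⟨c, hc⟩ := MulAction.exists_smul_eq G T P
      have hcg : c * g * c⁻¹ ∈ (P : Subgroup G) := by
        rw [← hc]
        exact Subgroup.smul_mem_pointwise_smul g (MulAut.conj c) (T : Subgroup G)
          (hT (Subgroup.mem_zpowers g))
      have hgc : IsConj g (c * g * c⁻¹) := isConj_iff.2 ⟨c, rfl⟩
      obtain ⟨t, ht, hgt⟩ : ∃ t ∈ X, IsConj g t := by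
        by_cases h1 : c * g * c⁻¹ = 1
        · exact ⟨1, by simp [hXdef], h1 ▸ hgc⟩
        · rcases hC.all _ hcg h1 with h | h | h
          exacts [⟨x, by simp [hXdef], hgc.trans h.symm⟩, ⟨y, by simp [hXdef], hgc.trans h.symm⟩,
            ⟨z, by simp [hXdef], hgc.trans h.symm⟩]
      refine ⟨t, ⟨ht, hgt⟩, fun t' ht' => ?_⟩
      have hc' : IsConj t t' := hgt.symm.trans ht'.2
      have ht'' := ht'.1
      simp only [hXdef, Finset.mem_insert, Finset.mem_singleton] at ht ht''
      rcases ht with rfl | rfl | rfl | rfl <;> rcases ht'' with rfl | rfl | rfl | rfl <;>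
        first
          | rfl
          | exact absurd hc' hC.nxy | exact absurd hc'.symm hC.nxy
          | exact absurd hc' hC.nxz | exact absurd hc'.symm hC.nxz
          | exact absurd hc' hC.nyz | exact absurd hc'.symm hC.nyz
          | exact absurd (isConj_one_left.1 hc'.symm) hC.nex
          | exact absurd (isConj_one_left.1 hc'.symm) hC.py.ne
          | exact absurd (isConj_one_left.1 hc'.symm) hC.pz.ne
          | exact absurd (isConj_one_left.1 hc') hC.nex
          | exact absurd (isConj_one_left.1 hc') hC.py.ne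
          | exact absurd (isConj_one_left.1 hc') hC.pz.ne
  have hXsum : ∀ F : G → ℂ, ∑ t ∈ X, F t = F 1 + (F x + (F y + F z)) := fun F => by
    rw [hXdef, Finset.sum_insert (by simp [h1x, h1y, h1z]),
      Finset.sum_insert (by simp [hxy, hxz]), Finset.sum_pair hyz]
  -- the three functions
  set fU : G → ℂ := fun g => 4 * (cls x g + cls z g) with hfU
  set fV : G → ℂ := fun g => 4 * (cls x g + cls y g) with hfV
  set fX : G → ℂ := fun g => 16 * cls x g with hfX
  have hclU : IsClassFunction G fU := fun g h => by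
    simp only [hfU, isClassFunction_cls x g h, isClassFunction_cls z g h]
  have hclV : IsClassFunction G fV := fun g h => by
    simp only [hfV, isClassFunction_cls x g h, isClassFunction_cls y g h]
  have hclX : IsClassFunction G fX := fun g h => by
    simp only [hfX, isClassFunction_cls x g h]
  have hrU : ∀ g, conj (fU g) = fU g := fun g => by simp only [hfU, map_mul, map_add, conj_cls, map_ofNat]
  have hrV : ∀ g, conj (fV g) = fV g := fun g => by simp only [hfV, map_mul, map_add, conj_cls, map_ofNat]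
  have hrX : ∀ g, conj (fX g) = fX g := fun g => by simp only [hfX, map_mul, map_add, conj_cls, map_ofNat]
  have hval : ∀ v ∈ (P : Subgroup G), ((v = 1 ∧ cls x v = 0 ∧ cls y v = 0 ∧ cls z v = 0) ∨
      (IsConj x v ∧ v ∉ Vy ∧ v ∉ Vz ∧ v ≠ 1 ∧ cls x v = 1 ∧ cls y v = 0 ∧ cls z v = 0) ∨
      (v ∈ Vy ∧ v ∉ Vz ∧ v ≠ 1 ∧ cls x v = 0 ∧ cls y v = 1 ∧ cls z v = 0) ∨
      (v ∈ Vz ∧ v ∉ Vy ∧ v ≠ 1 ∧ cls x v = 0 ∧ cls y v = 0 ∧ cls z v = 1)) := by
    intro v hv
    by_cases h1 : v = 1
    · subst h1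
      exact Or.inl ⟨rfl, if_neg fun h => hC.nex (isConj_one_left.1 h),
        if_neg fun h => hC.py.ne (isConj_one_left.1 h),
        if_neg fun h => hC.pz.ne (isConj_one_left.1 h)⟩
    · have hy := hC.py.iff v hv
      have hz := hC.pz.iff v hv
      simp only [h1, false_or] at hy hz
      rcases hC.all v hv h1 with h | h | h
      · have e1 : ¬ IsConj y v := fun h' => hC.nxy (h.trans h'.symm)
        have e2 : ¬ IsConj z v := fun h' => hC.nxz (h.trans h'.symm)
        exact Or.inr (Or.inl ⟨h, fun k => e1 (hy.1 k), fun k => e2 (hz.1 k), h1, if_pos h,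
          if_neg e1, if_neg e2⟩)
      · have e1 : ¬ IsConj x v := fun h' => hC.nxy (h'.trans h.symm)
        have e2 : ¬ IsConj z v := fun h' => hC.nyz (h.trans h'.symm)
        exact Or.inr (Or.inr (Or.inl ⟨hy.2 h, fun k => e2 (hz.1 k), h1, if_neg e1, if_pos h,
          if_neg e2⟩))
      · have e1 : ¬ IsConj y v := fun h' => hC.nyz (h'.trans h.symm)
        have e2 : ¬ IsConj x v := fun h' => hC.nxz (h'.trans h.symm)
        exact Or.inr (Or.inr (Or.inr ⟨hz.2 h, fun k => e1 (hy.1 k), h1, if_neg e2, if_neg e1,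
          if_pos h⟩))
  set PS := H39.coeffSpan ZZ (P : Subgroup G)
  set gy : ↥(P : Subgroup G) → ℂ := fun v => if (v : G) ∈ Vy then (4 : ℂ) else 0 with hgy
  set gz : ↥(P : Subgroup G) → ℂ := fun v => if (v : G) ∈ Vz then (4 : ℂ) else 0 with hgz
  have hgy' : gy ∈ PS := four_indicator_mem hcard hab hC.py.le hC.py.card
  have hgz' : gz ∈ PS := four_indicator_mem hcard hab hC.pz.le hC.pz.card
  have hPU : (fun v : (P : Subgroup G) => fU v) ∈ PS := by
    have h := sub_mem (const_mem (P := (P : Subgroup G)) 4) hgy'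
    convert h using 1
    funext v
    rcases hval v v.2 with ⟨a, b, c, d⟩ | ⟨-, a, -, -, b, c, d⟩ | ⟨a, -, -, b, c, d⟩ |
      ⟨-, a, -, b, c, d⟩
    · simp [hfU, hgy, a, Vy.one_mem]
      rw [a] at *
      simp [b, d]
    all_goals simp [hfU, hgy, a, b, d]
  have hPV : (fun v : (P : Subgroup G) => fV v) ∈ PS := by
    have h := sub_mem (const_mem (P := (P : Subgroup G)) 4) hgz'
    convert h using 1
    funext v
    rcases hval v v.2 with ⟨a, b, c, d⟩ | ⟨-, -, a, -, b, c, d⟩ | ⟨-, a, -, b, c, d⟩ |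
      ⟨a, -, -, b, c, d⟩
    · simp [hfV, hgz, a, Vz.one_mem]
      rw [a] at *
      simp [b, c]
    all_goals simp [hfV, hgz, a, b, c]
  have hPX : (fun v : (P : Subgroup G) => fX v) ∈ PS := by
    have h := add_mem (sub_mem (sub_mem (const_mem (P := (P : Subgroup G)) 16)
      (H39.smul_mem_coeffSpan (S := ZZ) (c := (4 : ℂ)) ⟨4, by simp⟩ hgy'))
      (H39.smul_mem_coeffSpan (S := ZZ) (c := (4 : ℂ)) ⟨4, by simp⟩ hgz'))
      (regular_mem (P := (P : Subgroup G)))
    convert h using 1
    funext v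
    rcases hval v v.2 with ⟨a, b, c, d⟩ | ⟨-, a, a', n, b, c, d⟩ | ⟨a, a', n, b, c, d⟩ |
      ⟨a', a, n, b, c, d⟩
    · obtain rfl : v = 1 := Subtype.ext a
      rw [a] at b
      have h0 : (((1 : (P : Subgroup G))) : G) = 1 := rfl
      norm_num [hfX, hgy, hgz, h0, b, Vy.one_mem, Vz.one_mem]
      rw [← Nat.card_eq_fintype_card, hcard]
      norm_num
    all_goals
      have n' : v ≠ 1 := fun e => n (congrArg Subtype.val e)
      norm_num [hfX, hgy, hgz, a, a', n, n', b]
  -- the matrices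
  let ι := {χ : IrrCharacter G // χ ∈ EC.B0 M G}
  have hmem : ∀ i : ι, i.1 ∈ principalBlock M G := fun i => EC.mem_B0.1 i.2
  choose U hU using fun i j : ι => exists_int_pair hclU P hPU i.1 j.1
  choose V hV using fun i j : ι => exists_int_pair hclV P hPV i.1 j.1
  choose W hW using fun i j : ι => exists_int_pair hclX P hPX i.1 j.1
  set S : G → IrrCharacter G → IrrCharacter G → ℂ := fun t χ ψ =>
    (Nat.card (Subgroup.centralizer ({t} : Set G)) : ℂ)⁻¹ *
      ∑ s ∈ Finset.univ.filter
        (fun s : Subgroup.centralizer ({t} : Set G) => IsPRegular 2 s),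
        χ.1 (t * (s : G)) * conj (ψ.1 (t * (s : G))) with hS
  have hexp : ∀ {f : G → ℂ}, IsClassFunction G f → ∀ χ ψ : IrrCharacter G,
      pair 2 f χ ψ = f 1 * S 1 χ ψ + (f x * S x χ ψ + (f y * S y χ ψ + f z * S z χ ψ)) := by
    intro f hf χ ψ
    rw [pair_eq_sum hX hf, hXsum]
  have hX1 : cls x 1 = 0 ∧ cls y 1 = 0 ∧ cls z 1 = 0 := by
    refine ⟨if_neg fun h => hC.nex (isConj_one_left.1 h),
      if_neg fun h => hC.py.ne (isConj_one_left.1 h),
      if_neg fun h => hC.pz.ne (isConj_one_left.1 h)⟩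
  have hXx : cls x x = 1 ∧ cls y x = 0 ∧ cls z x = 0 :=
    ⟨if_pos (IsConj.refl x), if_neg fun h => hC.nxy h.symm, if_neg fun h => hC.nxz h.symm⟩
  have hXy : cls x y = 0 ∧ cls y y = 1 ∧ cls z y = 0 :=
    ⟨if_neg hC.nxy, if_pos (IsConj.refl y), if_neg fun h => hC.nyz h.symm⟩
  have hXz : cls x z = 0 ∧ cls y z = 0 ∧ cls z z = 1 :=
    ⟨if_neg hC.nxz, if_neg hC.nyz, if_pos (IsConj.refl z)⟩
  have hUe : ∀ χ ψ, pair 2 fU χ ψ = 4 * (S x χ ψ + S z χ ψ) := fun χ ψ => by
    rw [hexp hclU]; simp [hfU, hX1, hXx, hXy, hXz]; ring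
  have hVe : ∀ χ ψ, pair 2 fV χ ψ = 4 * (S x χ ψ + S y χ ψ) := fun χ ψ => by
    rw [hexp hclV]; simp [hfV, hX1, hXx, hXy, hXz]; ring
  have hXe : ∀ χ ψ, pair 2 fX χ ψ = 16 * S x χ ψ := fun χ ψ => by
    rw [hexp hclX]; simp [hfX, hX1, hXx, hXy, hXz]
  have hprod : ∀ {f f' : G → ℂ}, IsClassFunction G f → IsClassFunction G f' →
      ∀ {χ : IrrCharacter G}, χ ∈ principalBlock M G → ∀ ψ : IrrCharacter G,
      ∑ η ∈ EC.B0 M G, pair 2 f χ η * pair 2 f' η ψ =
        f 1 * f' 1 * S 1 χ ψ + (f x * f' x * S x χ ψ +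
          (f y * f' y * S y χ ψ + f z * f' z * S z χ ψ)) := by
    intro f f' hf hf' χ hχ ψ
    rw [sum_pair_mul hM hX hf f' hχ, hexp (fun g h => by simp only [hf g h, hf' g h])]
  have hsumι : ∀ F : IrrCharacter G → ℂ, ∑ i : ι, F i.1 = ∑ χ ∈ EC.B0 M G, F χ := fun F =>
    Finset.sum_coe_sort (EC.B0 M G) F
  have hWsq : ∀ i k : ι, ∑ j, W i j * W j k = 16 * W i k := by
    intro i k
    have h : ((∑ j, W i j * W j k : ℤ) : ℂ) = ((16 * W i k : ℤ) : ℂ) := by
      push_cast
      simp only [← hW]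
      rw [hsumι (fun χ => pair 2 fX i.1 χ * pair 2 fX χ k.1), hprod hclX hclX (hmem i), hXe]
      simp [hfX, hX1, hXx, hXy, hXz]
      ring
    exact_mod_cast h
  have htr : ∀ {f : G → ℂ}, IsClassFunction G f → ∑ χ ∈ EC.B0 M G, pair 2 f χ χ =
      f 1 * (blockRank 2 (principalBlock M G) : ℂ) + (f x + (3 * f y + 3 * f z)) := by
    intro f hf
    rw [sum_pair_self hM hX hf, hXsum, K34.secRank_one hM, hC.rankx, hC.py.rank, hC.pz.rank]
    push_cast
    ring
  have hWtr : ∑ i, W i i = 16 := by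
    have h : ((∑ i, W i i : ℤ) : ℂ) = ((16 : ℤ) : ℂ) := by
      push_cast
      simp only [← hW]
      rw [hsumι (fun χ => pair 2 fX χ χ), htr hclX]
      simp [hfX, hX1, hXx, hXy, hXz]
    exact_mod_cast h
  have hsymm : ∀ (f : G → ℂ), (∀ g, conj (f g) = f g) → ∀ (A : ι → ι → ℤ),
      (∀ i j, pair 2 f i.1 j.1 = (A i j : ℂ)) → ∀ i j, A i j = A j i := by
    intro f hf A hA i j
    have h : (A i j : ℂ) = (A j i : ℂ) := by
      rw [← hA j i, ← conj_pair hf, hA, map_intCast]
    exact_mod_cast h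
  -- the column of `x`
  set o : ι := ⟨H26.oneIrr G, EC.one_mem_B0 hM⟩ with ho
  have hmaj : (Nat.card (Subgroup.centralizer ({x} : Set G))).factorization 2 =
      (Nat.card G).factorization 2 := by
    have hPC : (P : Subgroup G) ≤ Subgroup.centralizer ({x} : Set G) := fun v hv =>
      Subgroup.mem_centralizer_singleton_iff.2 (hab v hv x hC.memx)
    refine Nat.pow_right_injective (le_refl 2) ?_
    show 2 ^ _ = 2 ^ _
    rw [← (P.subtype hPC).card_eq_multiplicity, ← P.card_eq_multiplicity]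
    exact Nat.card_congr (Subgroup.subgroupOfEquivOfLe hPC).toEquiv
  have hW1 : W o o = 1 := by
    have h : (W o o : ℂ) = 1 := by
      rw [← hW, hXe]
      simp only [hS, ho, H26.oneIrr_val, map_one, mul_one, Finset.sum_const, nsmul_eq_mul]
      have h16 := card_regular_mul hC.nilx
      rw [hmaj, ← P.card_eq_multiplicity, hcard] at h16
      have hne : (Nat.card (Subgroup.centralizer ({x} : Set G)) : ℂ) ≠ 0 :=
        Nat.cast_ne_zero.2 Nat.card_pos.ne'
      rw [mul_left_comm, inv_mul_eq_iff_eq_mul₀ hne, mul_one, ← h16]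
      push_cast
      ring
    exact_mod_cast h
  let a : ι → ℤ := fun i => W i o
  have hWsy := hsymm fX hrX W hW
  have hrank1 : ∀ i k : ι, W i k = a i * a k := by
    have h0 : ∑ i, ∑ k, (W i k - a i * a k) ^ 2 = 0 := by
      have e1 : ∀ i, ∑ k, W i k ^ 2 = 16 * W i i := fun i => by
        rw [← hWsq i i]; exact Finset.sum_congr rfl fun k _ => by rw [pow_two, hWsy k i]
      have e2 : ∀ i, ∑ k, W i k * a k = 16 * a i := fun i => hWsq i o
      have e3 : ∑ k, a k ^ 2 = 16 := by
        have := hWsq o o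
        rw [hW1] at this
        refine Eq.trans (Finset.sum_congr rfl fun k _ => ?_) this
        simp only [a, pow_two, hWsy o k]
      have e4 : ∀ i, ∑ k, (W i k - a i * a k) ^ 2 = 16 * W i i - 16 * a i ^ 2 := fun i => by
        rw [Finset.sum_congr rfl (g := fun k => W i k ^ 2 - 2 * a i * (W i k * a k) +
          a i ^ 2 * a k ^ 2) fun k _ => by ring, Finset.sum_add_distrib, Finset.sum_sub_distrib,
          ← Finset.mul_sum, ← Finset.mul_sum, e1, e2, e3]
        ring
      rw [Finset.sum_congr rfl fun i _ => e4 i, Finset.sum_sub_distrib, ← Finset.mul_sum,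
        ← Finset.mul_sum, hWtr, e3, sub_self]
    intro i k
    have h1 := (Finset.sum_eq_zero_iff_of_nonneg fun i _ =>
      Finset.sum_nonneg fun k _ => sq_nonneg (W i k - a i * a k)).1 h0 i (Finset.mem_univ i)
    have h2 := (Finset.sum_eq_zero_iff_of_nonneg fun k _ =>
      sq_nonneg (W i k - a i * a k)).1 h1 k (Finset.mem_univ k)
    have := pow_eq_zero_iff two_ne_zero |>.1 h2
    omega
  have hsum : ∑ i, a i ^ 2 = 16 := by
    rw [← hWtr]; exact Finset.sum_congr rfl fun i _ => by rw [hrank1 i i, pow_two]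
  have hane : ∀ i, a i ≠ 0 := by
    intro i h0
    have h : (W i o : ℂ) = 0 := by exact_mod_cast h0
    rw [← hW, hXe] at h
    simp only [hS, ho, H26.oneIrr_val, map_one, mul_one, mul_eq_zero, inv_eq_zero,
      Nat.cast_eq_zero, Nat.card_pos.ne', false_or] at h
    rcases h with h | h
    · norm_num at h
    · exact sum_section_ne_zero hM (hord x hC.memx) hmaj (hmem i) h
  have hhalf : ∀ {f : G → ℂ}, IsClassFunction G f → (∀ g, conj (f g) = f g) → ∀ (A : ι → ι → ℤ),
      (∀ i j, pair 2 f i.1 j.1 = (A i j : ℂ)) → f 1 = 0 → f x = 4 →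
      (f y = 0 ∧ f z = 4 ∨ f y = 4 ∧ f z = 0) → Half a A := by
    intro f hf hr A hA h1 hx hyz'
    refine ⟨hsymm f hr A hA, fun i k => ?_, fun i => ?_, ?_⟩
    · have h : ((∑ j, A i j * A j k : ℤ) : ℂ) = ((4 * A i k : ℤ) : ℂ) := by
        push_cast
        simp only [← hA]
        rw [hsumι (fun χ => pair 2 f i.1 χ * pair 2 f χ k.1), hprod hf hf (hmem i), hexp hf]
        rcases hyz' with ⟨ey, ez⟩ | ⟨ey, ez⟩ <;> rw [h1, hx, ey, ez] <;> ring
      exact_mod_cast h
    · have h : ((∑ j, A i j * a j : ℤ) : ℂ) = ((4 * a i : ℤ) : ℂ) := by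
        push_cast
        simp only [a, ← hA, ← hW]
        rw [hsumι (fun χ => pair 2 f i.1 χ * pair 2 fX χ o.1), hprod hf hclX (hmem i), hXe]
        simp [hfX, hX1, hXx, hXy, hXz, hx]
        ring
      exact_mod_cast h
    · have h : ((∑ i, A i i : ℤ) : ℂ) = ((16 : ℤ) : ℂ) := by
        push_cast
        simp only [← hA]
        rw [hsumι (fun χ => pair 2 f χ χ), htr hf]
        rcases hyz' with ⟨ey, ez⟩ | ⟨ey, ez⟩ <;> rw [h1, hx, ey, ez] <;> ring
      exact_mod_cast h
  have hHU : Half a U := hhalf hclU hrU U hU (by simp [hfU, hX1]) (by simp [hfU, hXx])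
    (Or.inl ⟨by simp [hfU, hXy], by simp [hfU, hXz]⟩)
  have hHV : Half a V := hhalf hclV hrV V hV (by simp [hfV, hX1]) (by simp [hfV, hXx])
    (Or.inr ⟨by simp [hfV, hXy], by simp [hfV, hXz]⟩)
  have hUV : ∀ i k, ∑ j, U i j * V j k = a i * a k := by
    intro i k
    rw [← hrank1]
    have h : ((∑ j, U i j * V j k : ℤ) : ℂ) = (W i k : ℂ) := by
      push_cast
      simp only [← hU, ← hV, ← hW]
      rw [hsumι (fun χ => pair 2 fU i.1 χ * pair 2 fV χ k.1), hprod hclU hclV (hmem i), hXe]
      norm_num [hfU, hfV, hX1, hXx, hXy, hXz]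
    exact_mod_cast h
  have hlt : ∀ i, 4 * (U i i + V i i) < 16 + a i ^ 2 := by
    intro i
    set χ := i.1 with hχ
    have hone := hexp (f := fun _ => (1 : ℂ)) (fun _ _ => rfl) χ χ
    rw [pair_const, if_pos rfl, one_mul, one_mul, one_mul, one_mul] at hone
    obtain ⟨r, hr0, hr⟩ : ∃ r : ℝ, 0 < r ∧ S 1 χ χ = (r : ℂ) := by
      refine ⟨(Nat.card (Subgroup.centralizer ({(1 : G)} : Set G)) : ℝ)⁻¹ *
        ∑ s ∈ Finset.univ.filter
          (fun s : Subgroup.centralizer ({(1 : G)} : Set G) => IsPRegular 2 s),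
          Complex.normSq (χ.1 (1 * (s : G))), mul_pos (inv_pos.2 (Nat.cast_pos.2 Nat.card_pos))
            (Finset.sum_pos' (fun s _ => Complex.normSq_nonneg _) ⟨1, Finset.mem_filter.2
              ⟨Finset.mem_univ _, by simp [IsPRegular]⟩, ?_⟩), ?_⟩
      · simpa using Complex.normSq_pos.2 (H26.irr_one_ne_zero χ)
      · simp only [hS, Complex.mul_conj]
        push_cast
        rfl
    have h : ((4 * (U i i + V i i) : ℤ) : ℂ) = ((a i ^ 2 : ℤ) : ℂ) + ((16 * (1 - r) : ℝ) : ℂ) := by
      rw [pow_two (a i), ← hrank1]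
      push_cast
      rw [← hU, ← hV, ← hW, hUe, hVe, hXe, ← hr]
      linear_combination (-16 : ℂ) * hone
    have h' : ((4 * (U i i + V i i) : ℤ) : ℝ) = ((a i ^ 2 : ℤ) : ℝ) + 16 * (1 - r) := by
      exact_mod_cast h
    have : ((4 * (U i i + V i i) : ℤ) : ℝ) < ((16 + a i ^ 2 : ℤ) : ℝ) := by
      rw [h']; push_cast; linarith
    exact_mod_cast this
  have hk : (Nat.card (principalBlock M G) : ℂ) =
      ((blockRank 2 (principalBlock M G) + 7 : ℕ) : ℂ) := by
    have h := htr (f := fun _ => (1 : ℂ)) fun _ _ => rfl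
    simp only [pair_const, if_pos, Finset.sum_const, nsmul_eq_mul, mul_one, one_mul] at h
    rw [K34.card_B0] at h
    rw [h]
    push_cast
    ring
  have hk' : Nat.card (principalBlock M G) = blockRank 2 (principalBlock M G) + 7 := by
    exact_mod_cast hk
  have hcardι : Fintype.card ι = Nat.card (principalBlock M G) := by
    rw [← K34.card_B0, Fintype.card_coe]
  rcases card_eq_sixteen_or_le_eight hane hsum hHU hHV hUV hlt with h | h
  · exact ⟨hcardι ▸ h, by omega⟩
  · exfalso
    have hpos : 0 < blockRank 2 (principalBlock M G) :=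
      H23.OneSubsection.blockRank_pos H41.isPBlock_principalBlock
    have hl : blockRank 2 (principalBlock M G) = 1 := by omega
    have hle := normalizer_le_centralizer_of_complement P hab
      ((H32.blockRank_principal_eq_one_iff hM).1 hl)
    rw [Subgroup.relIndex_eq_one.2 hle] at he
    omega

end Cfsg.Agent.H92.S69
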